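import Groth.Agent.HilbPoly.TopNonvanish
import Groth.Agent.S1664

/-!
# Growth of the higher cohomology of powers of a globally generated invertible module
-/

set_option linter.style.haveILetI false
set_option linter.unusedSectionVars false
set_option backward.isDefEq.respectTransparency false
set_option backward.isDefEq.respectTransparency.types false
set_option maxHeartbeats 1000000

universe u

open CategoryTheory CategoryTheory.Limits AlgebraicGeometry TopologicalSpace Opposite MonoidalCategory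

attribute [local instance] HasDerivedCategory.standard

noncomputable section

namespace Groth.Agent.HilbPoly

open Groth.Agent

variable {X : Scheme.{u}}

lemma le_of_succ_le_add {d : ℕ} (h : ℕ → ℕ) {C : ℕ} (hh : ∀ N, h (N + 1) ≤ h N + C * (N + 1) ^ d) :
    ∀ N, h N ≤ (h 0 + C) * (N + 1) ^ (d + 1)
  | 0 => by simp
  | N + 1 => by
    have h1 := (hh N).trans (Nat.add_le_add_right (le_of_succ_le_add h hh N) _)
    have h2 : (N + 1) ^ d ≤ (N + 1 + 1) ^ d := Nat.pow_le_pow_left (by omega) d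
    refine h1.trans ?_
    calc (h 0 + C) * (N + 1) ^ (d + 1) + C * (N + 1) ^ d
        ≤ (h 0 + C) * ((N + 1) ^ d * (N + 1)) + (h 0 + C) * (N + 1) ^ d := by
          rw [pow_succ]
          exact Nat.add_le_add_left (Nat.mul_le_mul_right _ (Nat.le_add_left C _)) _
      _ = (h 0 + C) * ((N + 1) ^ d * (N + 1 + 1)) := by ring
      _ ≤ (h 0 + C) * (N + 1 + 1) ^ (d + 1) := by
          rw [pow_succ]
          exact Nat.mul_le_mul_left _ (Nat.mul_le_mul_right _ h2)

variable (k : Type u) [Field k] [X.Over (Spec (CommRingCat.of k))] [IsProper (X ↘ Spec (CommRingCat.of k))]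

lemma hdimk_eq_zero_of_dimLT {F : X.Modules} (hF : Coh.IsCoh F) {d : ℕ} (hd : DimLT F d) {i : ℕ} (hi : d ≤ i) :
    hdimk k F i = 0 := by
  haveI : IsNoetherian X := CurveCohLib.isNoetherian_of_proper (k := k)
  haveI : X.IsSeparated := ⟨by
    have h : terminal.from X = (X ↘ Spec (CommRingCat.of k)) ≫ terminal.from _ := Subsingleton.elim _ _
    rw [h]
    infer_instance⟩
  haveI : Subsingleton (Coh.HH X F i) := Snapper.subsingleton_HH_of_dim_lt d
    ⟨_, QCoh.isClosed_support_of_isFT hF.1 hF.2⟩ hd _ hF.1 subset_rfl i hi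
  exact Module.finrank_zero_of_subsingleton

variable {L : X.Modules}

/-- One step for a piece `i_* I` of the dévissage. -/
theorem exists_gg_step (hL : PicF.IsInvertible L) (hg : Curv2.IsGloballyGenerated L) {Z : Scheme.{u}} (j : Z ⟶ X)
    [IsClosedImmersion j] [IsIntegral Z] {I : Z.Modules} (ι : I ⟶ Coh.structureModule Z) [Mono ι]
    (hI : Coh.IsQCoh I) (hI0 : ¬ IsZero I) (hA : Coh.IsCoh ((Coh.push j).obj I)) {d : ℕ}
    (hd : topologicalKrullDim ↥(closure ({j (genericPoint Z)} : Set X)) ≤ (d : WithBot ℕ∞)) :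
    ∃ C : X.Modules, Coh.IsCoh C ∧ DimLT C d ∧ ∀ N i, hdimk k (pw L ((Coh.push j).obj I) (N + 1)) i ≤
      hdimk k (pw L ((Coh.push j).obj I) N) i + hdimk k (pw L C N) i := by
  haveI : IsNoetherian X := CurveCohLib.isNoetherian_of_proper (k := k)
  let A := (Coh.push j).obj I
  set ξ := j (genericPoint Z) with hξdef
  have hsA : CohB1.support A = closure {ξ} := QCoh.support_push_ideal j ι hI hI0
  obtain ⟨s, hξs⟩ := S1664.GenSec.exists_mem_genLocus hL hg ξ
  obtain ⟨U, hU, hξU⟩ : ∃ U : X.Opens, IsIso ((Scheme.Modules.restrictFunctor U.ι).map s) ∧ ξ ∈ U :=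
    Opens.mem_sSup.1 hξs
  haveI : IsIso ((Scheme.Modules.restrictFunctor U.ι).map s) := hU
  haveI : Mono (mulHom s A) :=
    mono_mulHom_of_mono s ((Coh.push j).map ι) (Functor.map_mono _ ι) (mono_mulHom_push j s hξU)
  haveI := isIso_restrict_mulHom s A (U := U)
  have hP : Coh.IsCoh (CohB1.tensorMod A L) := AmpleVan.isCoh_tensor hA (AmpleVan.isCoh_invertible hL)
  let C := cokernel (mulHom s A)
  have hC : Coh.IsCoh C := QCoh.isCoh_cokernel hA.1 hP _
  refine ⟨C, hC, dim_lt_closure hd (QCoh.isClosed_support_of_isFT hC.1 hC.2)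
    (((QCoh.support_of_epi hP.1 hC.1 (cokernel.π _)).trans (support_tensor_subset A _)).trans hsA.le)
    (notMem_support_of_isZero_restrict (isZero_restrict_cokernel U _) hξU), fun N i => ?_⟩
  haveI := AmpleVan.isEquivalence_tw (InvX.isInvertible_tensorPow hL N)
  have hS : (ShortComplex.mk (mulHom s A) (cokernel.π _) (cokernel.condition _)).ShortExact :=
    .mk' (ShortComplex.exact_of_g_is_cokernel _ (cokernelIsCokernel _)) ‹_› inferInstance
  have h := hdimk_mid k (hS.map_of_exact (AmpleVan.tw (CohB1.tensorPow L N))) (isCoh_pw hL hA N)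
    (isCoh_pw hL hP N) (isCoh_pw hL hC N) i
  obtain ⟨c⟩ := H23.PicMul.comm L (CohB1.tensorPow L N)
  exact (finrank_HH_iso k ((AmpleVan.twComp L (CohB1.tensorPow L N)).app A ≪≫
    ((DCoh.tensorBi (X := X)).obj A).mapIso c) i).symm.le.trans h

/-- Bounds pass through the dévissage. -/
theorem gg_devissage (hL : PicF.IsInvertible L) {d e : ℕ}
    (hpiece : ∀ (Z : Scheme.{u}) (j : Z ⟶ X) [IsClosedImmersion j] [IsIntegral Z] (I : Z.Modules)
      (ι : I ⟶ Coh.structureModule Z) [Mono ι], Coh.IsQCoh I → ¬ IsZero I → Coh.IsCoh ((Coh.push j).obj I) →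
      topologicalKrullDim ↥(closure ({j (genericPoint Z)} : Set X)) ≤ (d : WithBot ℕ∞) →
      ∀ i, 1 ≤ i → ∃ C, ∀ N, hdimk k (pw L ((Coh.push j).obj I) N) i ≤ C * (N + 1) ^ e)
    {F : X.Modules} (hF : Coh.IsCoh F) (hdim : DimLT F (d + 1)) :
    ∀ i, 1 ≤ i → ∃ C, ∀ N, hdimk k (pw L F N) i ≤ C * (N + 1) ^ e := by
  haveI : IsNoetherian X := CurveCohLib.isNoetherian_of_proper (k := k)
  have hLp : ∀ N, PicF.IsInvertible (CohB1.tensorPow L N) := InvX.isInvertible_tensorPow hL
  induction QCoh.filt_of_isCoh hF with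
  | @zero F₀ h =>
    intro i _
    refine ⟨0, fun N => le_of_eq ?_⟩
    rw [zero_mul]
    haveI := AmpleVan.isEquivalence_tw (hLp N)
    haveI : Subsingleton (Coh.HH X (pw L F₀ N) i) :=
      Euler.subsingleton_HH_of_isZero ((AmpleVan.tw (CohB1.tensorPow L N)).map_isZero h) i
    exact Module.finrank_zero_of_subsingleton
  | @step F₁ M' φ _ _ hNc hMc hex ih =>
    obtain ⟨Z, j, hj, hZ, I, ι, hι, hI, hI0, ⟨e'⟩⟩ := hex
    haveI := hj; haveI := hZ; haveI := hι
    have hc := QCoh.isCoh_cokernel hNc.1 hMc φ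
    have hA : Coh.IsCoh ((Coh.push j).obj I) := QCoh.isCoh_of_mono (e'.inv) hc (QCoh.isQCoh_pushforward j hI)
    have hξd : topologicalKrullDim ↥(closure ({j (genericPoint Z)} : Set X)) ≤ (d : WithBot ℕ∞) := by
      rw [← QCoh.support_push_ideal j ι hI hI0, ← QCoh.support_iso e' hc.1]
      exact le_of_lt_succ ((H23.TopDim.dim_le_dim_of_subset
        (QCoh.support_of_epi hMc.1 hc.1 (cokernel.π φ))).trans_lt hdim)
    intro i hi
    obtain ⟨C₁, h₁⟩ :=
      ih hNc ((H23.TopDim.dim_le_dim_of_subset (QCoh.mem_support_of_mono hNc.1 hMc.1 φ)).trans_lt hdim) i hi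
    obtain ⟨C₂, h₂⟩ := hpiece Z j I ι hI hI0 hA hξd i hi
    refine ⟨C₁ + C₂, fun N => ?_⟩
    haveI := AmpleVan.isEquivalence_tw (hLp N)
    have hS' : ((ShortComplex.mk φ (cokernel.π φ) (cokernel.condition φ)).map
        (AmpleVan.tw (CohB1.tensorPow L N))).ShortExact :=
      (ShortComplex.ShortExact.mk' (ShortComplex.exact_of_g_is_cokernel _ (cokernelIsCokernel φ))
        ‹_› inferInstance).map_of_exact _
    have h := hdimk_mid k hS' (isCoh_pw hL hNc N) (isCoh_pw hL hMc N) (isCoh_pw hL hc N) i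
    rw [add_mul]
    exact h.trans (add_le_add (h₁ N) ((finrank_HH_iso k ((AmpleVan.tw _).mapIso e') i).le.trans (h₂ N)))

/-- For globally generated `L`, `h^i(F ⊗ L^n) = O(n^{dim - 1})` for `i ≥ 1`. -/
theorem hdimk_gg_le (hL : PicF.IsInvertible L) (hg : Curv2.IsGloballyGenerated L) :
    ∀ (d : ℕ) (F : X.Modules), Coh.IsCoh F → DimLT F (d + 2) →
      ∀ i, 1 ≤ i → ∃ C, ∀ N, hdimk k (pw L F N) i ≤ C * (N + 1) ^ d := by
  haveI : IsNoetherian X := CurveCohLib.isNoetherian_of_proper (k := k)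
  intro d
  induction d with
  | zero =>
    intro F hF hdim
    refine gg_devissage k hL (d := 1) (fun Z j _ _ I ι _ hI hI0 hA hd i hi => ?_) hF hdim
    obtain ⟨C, hC, hCd, hstep⟩ := exists_gg_step k hL hg j ι hI hI0 hA hd
    refine ⟨hdimk k (pw L ((Coh.push j).obj I) 0) i, fun N => ?_⟩
    rw [pow_zero, mul_one]
    induction N with
    | zero => exact le_rfl
    | succ N ih =>
      have h := hstep N i
      rw [hdimk_eq_zero_of_dimLT k (isCoh_pw hL hC N) (dimLT_of_subset (support_tensor_subset _ _) hCd) hi] at h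
      omega
  | succ d IH =>
    intro F hF hdim
    refine gg_devissage k hL (d := d + 2) (fun Z j _ _ I ι _ hI hI0 hA hd i hi => ?_) hF hdim
    obtain ⟨C, hC, hCd, hstep⟩ := exists_gg_step k hL hg j ι hI hI0 hA hd
    obtain ⟨K, hK⟩ := IH C hC hCd i hi
    exact ⟨_, le_of_succ_le_add (fun n => hdimk k (pw L ((Coh.push j).obj I) n) i)
      fun N => (hstep N i).trans (Nat.add_le_add_left (hK N) _)⟩

end Groth.Agent.HilbPoly
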