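import Groth.Agent.HilbPoly.Pos
import Groth.Agent.Snapper.DimVanish

/-!
# Negative twists: growth of cohomology, and non-vanishing in the top degree
-/

set_option linter.style.haveILetI false
set_option linter.unusedSectionVars false
set_option backward.isDefEq.respectTransparency false
set_option backward.isDefEq.respectTransparency.types false
set_option maxHeartbeats 1000000

universe u

open CategoryTheory CategoryTheory.Limits AlgebraicGeometry TopologicalSpace Opposite MonoidalCategory
open Groth.Agent.PnCoh.Finite (mapLin deltaLin)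

attribute [local instance] HasDerivedCategory.standard

noncomputable section

namespace Groth.Agent.HilbPoly

open Groth.Agent

variable {X : Scheme.{u}}

/-- `(M ⊗ L^m) ⊗ D^(N+m) ≅ M ⊗ D^N` for mutually inverse `L`, `D`. -/
theorem cancel_powers {L D : X.Modules} (u : CohB1.tensorMod L D ≅ Coh.structureModule X) :
    ∀ (m : ℕ) (M : X.Modules) (N : ℕ), Nonempty (pw D (pw L M m) (N + m) ≅ pw D M N) := by
  have a : ∀ (M P Q : X.Modules), Nonempty (CohB1.tensorMod (CohB1.tensorMod M P) Q ≅
      CohB1.tensorMod M (CohB1.tensorMod P Q)) := fun M P Q => ⟨(AmpleVan.twComp P Q).app M⟩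
  have cR : ∀ (M : X.Modules) {P Q : X.Modules}, (P ≅ Q) →
      Nonempty (CohB1.tensorMod M P ≅ CohB1.tensorMod M Q) :=
    fun M _ _ e => ⟨((DCoh.tensorBi (X := X)).obj M).mapIso e⟩
  have cL : ∀ (Q : X.Modules) {M M' : X.Modules}, (M ≅ M') →
      Nonempty (CohB1.tensorMod M Q ≅ CohB1.tensorMod M' Q) :=
    fun Q _ _ e => ⟨(AmpleVan.tw Q).mapIso e⟩
  intro m
  induction m with
  | zero => intro M N; exact cL _ (AmpleVan.twUnit.app M)
  | succ m ih =>
    intro M N
    let Lm := CohB1.tensorPow L m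
    let Dm := CohB1.tensorPow D (N + m)
    let DN := CohB1.tensorPow D N
    obtain ⟨c₁⟩ := H23.PicMul.comm Lm L
    obtain ⟨c₂⟩ := H23.PicMul.comm DN D
    obtain ⟨e₁⟩ := cR M c₁
    obtain ⟨a₁⟩ := a M L Lm
    obtain ⟨f₁⟩ := cL (CohB1.tensorMod Dm D) (e₁ ≪≫ a₁.symm)
    obtain ⟨a₂⟩ := a (CohB1.tensorMod (CohB1.tensorMod M L) Lm) Dm D
    obtain ⟨e₃⟩ := ih (CohB1.tensorMod M L) N
    obtain ⟨f₃⟩ := cL D e₃
    obtain ⟨a₄⟩ := a (CohB1.tensorMod M L) DN D
    obtain ⟨f₄⟩ := cR (CohB1.tensorMod M L) c₂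
    obtain ⟨a₅⟩ := a (CohB1.tensorMod M L) D DN
    obtain ⟨a₆⟩ := a M L D
    obtain ⟨f₆⟩ := cR M u
    obtain ⟨f₇⟩ := cL DN (a₆ ≪≫ f₆ ≪≫ AmpleVan.twUnit.app M)
    exact ⟨f₁ ≪≫ a₂.symm ≪≫ f₃ ≪≫ a₄ ≪≫ f₄ ≪≫ a₅.symm ≪≫ f₇⟩

lemma mulHom_naturality {N : X.Modules} (s : Coh.structureModule X ⟶ N) {M M' : X.Modules} (f : M ⟶ M') :
    mulHom s M ≫ (AmpleVan.tw N).map f = f ≫ mulHom s M' := by
  have h1 := AmpleVan.twUnit.inv.naturality f
  simp only [Functor.id_map] at h1
  rw [mulHom, mulHom, Category.assoc, reassoc_of% h1]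
  exact congrArg _ (((DCoh.tensorBi (X := X)).map f).naturality s)

lemma mono_mulHom_of_mono {N : X.Modules} (s : Coh.structureModule X ⟶ N) {M M' : X.Modules} (f : M ⟶ M')
    (hf : Mono f) (h : Mono (mulHom s M')) : Mono (mulHom s M) := by
  have h1 : Mono (mulHom s M ≫ (AmpleVan.tw N).map f) := by
    rw [mulHom_naturality]
    exact @mono_comp _ _ _ _ _ f hf (mulHom s M') h
  exact @mono_of_mono _ _ _ _ _ (mulHom s M) ((AmpleVan.tw N).map f) h1

lemma mono_mulHom_push {Z : Scheme.{u}} [IsIntegral Z] (j : Z ⟶ X) {N : X.Modules}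
    (s : Coh.structureModule X ⟶ N) {U : X.Opens} [IsIso ((Scheme.Modules.restrictFunctor U.ι).map s)]
    (hU : j (genericPoint Z) ∈ U) : Mono (mulHom s ((Coh.push j).obj (Coh.structureModule Z))) := by
  let O' := (Coh.push j).obj (Coh.structureModule Z)
  haveI := isIso_restrict_mulHom s O' (U := U)
  haveI : Mono (resUnit U O') := mono_resUnit_push j hU
  haveI : Mono (mulHom s O' ≫ resUnit U (CohB1.tensorMod O' N)) := by
    have hn : mulHom s O' ≫ resUnit U (CohB1.tensorMod O' N) = resUnit U O' ≫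
        (Scheme.Modules.pushforward U.ι).map ((Scheme.Modules.restrictFunctor U.ι).map (mulHom s O')) :=
      (Scheme.Modules.restrictAdjunction U.ι).unit.naturality (mulHom s O')
    rw [hn]
    exact mono_comp _ _
  exact mono_of_mono _ (resUnit U (CohB1.tensorMod O' N))

lemma pow_add_le {i m : ℕ} (hm : 0 < m) (h : ℕ → ℕ) {C : ℕ}
    (hh : ∀ N, h (N + m) ≤ h N + C * (N + m + 1) ^ i) : ∃ A, ∀ N, h N ≤ A * (N + 1) ^ (i + 1) := by
  refine ⟨(∑ j ∈ Finset.range m, h j) + C, fun N => ?_⟩
  induction N using Nat.strong_induction_on with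
  | _ N ih =>
    rcases Nat.lt_or_ge N m with hN | hN
    · exact (Finset.single_le_sum (fun j _ => Nat.zero_le (h j)) (Finset.mem_range.2 hN)).trans
        ((Nat.le_add_right _ C).trans (Nat.le_mul_of_pos_right _ (by positivity)))
    · obtain ⟨M, rfl⟩ : ∃ M, N = M + m := ⟨N - m, by omega⟩
      have h1 := ih M (by omega)
      set A := (∑ j ∈ Finset.range m, h j) + C
      have h2 : (M + 1) ^ (i + 1) ≤ (M + m + 1) ^ i * (M + 1) := by
        rw [pow_succ]
        exact Nat.mul_le_mul_right _ (Nat.pow_le_pow_left (by omega) i)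
      calc h (M + m) ≤ h M + C * (M + m + 1) ^ i := hh M
        _ ≤ A * ((M + m + 1) ^ i * (M + 1)) + A * (M + m + 1) ^ i :=
          add_le_add (h1.trans (Nat.mul_le_mul_left _ h2)) (Nat.mul_le_mul_right _ (Nat.le_add_left C _))
        _ = A * ((M + m + 1) ^ i * (M + 2)) := by ring
        _ ≤ A * (M + m + 1) ^ (i + 1) := by
          rw [pow_succ]
          exact Nat.mul_le_mul_left _ (Nat.mul_le_mul_left _ (by omega))

variable (k : Type u) [Field k] [X.Over (Spec (CommRingCat.of k))] [IsProper (X ↘ Spec (CommRingCat.of k))]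

/-- The dimension of `H^i`. -/
abbrev hdimk (F : X.Modules) (i : ℕ) : ℕ := Module.finrank k (Coh.HH X F i)

section Exact

variable {S : ShortComplex X.Modules} (hS : S.ShortExact)
include hS

lemma hdimk_mid (h₁ : Coh.IsCoh S.X₁) (h₂ : Coh.IsCoh S.X₂) (h₃ : Coh.IsCoh S.X₃) (i : ℕ) :
    hdimk k S.X₂ i ≤ hdimk k S.X₁ i + hdimk k S.X₃ i := by
  have := CurveCohLib.finite_HH (k := k) h₁ i
  have := CurveCohLib.finite_HH (k := k) h₂ i
  have := CurveCohLib.finite_HH (k := k) h₃ i
  have e := LinearMap.finrank_range_add_finrank_ker (mapLin k S.g i)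
  rw [CurveCohLib.ker_mapLin_g k hS i] at e
  have e1 := LinearMap.finrank_range_le (mapLin k S.f i)
  have e2 := Submodule.finrank_le (LinearMap.range (mapLin k S.g i))
  simp only [hdimk]
  omega

lemma hdimk_left_zero (h₂ : Coh.IsCoh S.X₂) : hdimk k S.X₁ 0 ≤ hdimk k S.X₂ 0 := by
  have := CurveCohLib.finite_HH (k := k) h₂ 0
  exact LinearMap.finrank_le_finrank_of_injective (CurveCohLib.mapLin_f_zero_injective k hS)

lemma hdimk_left (h₁ : Coh.IsCoh S.X₁) (h₂ : Coh.IsCoh S.X₂) (h₃ : Coh.IsCoh S.X₃) (i : ℕ) :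
    hdimk k S.X₁ (i + 1) ≤ hdimk k S.X₂ (i + 1) + hdimk k S.X₃ i := by
  have := CurveCohLib.finite_HH (k := k) h₁ (i + 1)
  have := CurveCohLib.finite_HH (k := k) h₂ (i + 1)
  have := CurveCohLib.finite_HH (k := k) h₃ i
  have e := LinearMap.finrank_range_add_finrank_ker (mapLin k S.f (i + 1))
  rw [CurveCohLib.ker_mapLin_f_succ k hS i] at e
  have e1 := LinearMap.finrank_range_le (deltaLin k hS i)
  have e2 := Submodule.finrank_le (LinearMap.range (mapLin k S.f (i + 1)))
  simp only [hdimk]
  omega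

end Exact

variable {L D : X.Modules}

/-- The cohomology of negative twists grows at most like `N^i`. -/
theorem hdimk_pw_le (hL : CohB1.IsAmple L) (hD : PicF.IsInvertible D)
    (u : CohB1.tensorMod L D ≅ Coh.structureModule X) :
    ∀ (d : ℕ) (F : X.Modules), Coh.IsCoh F → DimLT F d →
      ∀ i, ∃ C, ∀ N, hdimk k (pw D F N) i ≤ C * (N + 1) ^ i := by
  haveI : IsNoetherian X := CurveCohLib.isNoetherian_of_proper (k := k)
  haveI : X.IsSeparated := ⟨by
    have h : terminal.from X = (X ↘ Spec (CommRingCat.of k)) ≫ terminal.from _ := Subsingleton.elim _ _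
    rw [h]
    infer_instance⟩
  have hDp : ∀ N, PicF.IsInvertible (CohB1.tensorPow D N) := InvX.isInvertible_tensorPow hD
  intro d
  induction d with
  | zero =>
    intro F hF hd i
    refine ⟨0, fun N => le_of_eq ?_⟩
    rw [zero_mul]
    haveI : Subsingleton (Coh.HH X (pw D F N) i) := Snapper.subsingleton_HH_of_dim_lt 0
      ⟨_, QCoh.isClosed_support_of_isFT hF.1 hF.2⟩ hd _ (isCoh_pw hD hF N).1
      (support_tensor_subset F _) i (Nat.zero_le i)
    exact Module.finrank_zero_of_subsingleton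
  | succ d IH =>
    intro F hF hdim
    induction QCoh.filt_of_isCoh hF with
    | @zero F₀ h =>
      intro i
      refine ⟨0, fun N => le_of_eq ?_⟩
      rw [zero_mul]
      haveI := AmpleVan.isEquivalence_tw (hDp N)
      haveI : Subsingleton (Coh.HH X (pw D F₀ N) i) :=
        Euler.subsingleton_HH_of_isZero ((AmpleVan.tw (CohB1.tensorPow D N)).map_isZero h) i
      exact Module.finrank_zero_of_subsingleton
    | @step F₁ M' φ _ _ hNc hMc hex ih =>
      obtain ⟨Z, j, hj, hZ, I, ι, hι, hI, hI0, ⟨e⟩⟩ := hex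
      haveI := hj; haveI := hZ; haveI := hι
      have hc := QCoh.isCoh_cokernel hNc.1 hMc φ
      have hN₁ := ih hNc ((H23.TopDim.dim_le_dim_of_subset (QCoh.mem_support_of_mono hNc.1 hMc.1 φ)).trans_lt hdim)
      let A := (Coh.push j).obj I
      have hA : Coh.IsCoh A := QCoh.isCoh_of_mono (e.inv) hc (QCoh.isQCoh_pushforward j hI)
      set ξ := j (genericPoint Z) with hξdef
      have hr : Set.range j = closure {ξ} := QCoh.range_eq_closure j
      have hsA : CohB1.support A = closure {ξ} := QCoh.support_push_ideal j ι hI hI0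
      have hξd : topologicalKrullDim ↥(closure ({ξ} : Set X)) ≤ (d : WithBot ℕ∞) := by
        rw [← hsA, ← QCoh.support_iso e hc.1]
        exact le_of_lt_succ ((H23.TopDim.dim_le_dim_of_subset
          (QCoh.support_of_epi hMc.1 hc.1 (cokernel.π φ))).trans_lt hdim)
      obtain ⟨m, hm, s, hξs, -, -⟩ := AmpleX.exists_genLocus_le hL (U := ⊤) (show ξ ∈ (⊤ : X.Opens) from trivial)
      obtain ⟨U, hU, hξU⟩ : ∃ U : X.Opens, IsIso ((Scheme.Modules.restrictFunctor U.ι).map s) ∧ ξ ∈ U :=
        Opens.mem_sSup.1 hξs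
      haveI : IsIso ((Scheme.Modules.restrictFunctor U.ι).map s) := hU
      haveI : Mono (mulHom s A) :=
        mono_mulHom_of_mono s ((Coh.push j).map ι) (Functor.map_mono _ ι) (mono_mulHom_push j s hξU)
      haveI := isIso_restrict_mulHom s A (U := U)
      have hP : Coh.IsCoh (pw L A m) := isCoh_pw hL.1 hA m
      let C₀ := cokernel (mulHom s A)
      have hC : Coh.IsCoh C₀ := QCoh.isCoh_cokernel hA.1 hP _
      have hCd : DimLT C₀ d :=
        dim_lt_closure hξd (QCoh.isClosed_support_of_isFT hC.1 hC.2)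
          (((QCoh.support_of_epi hP.1 hC.1 (cokernel.π _)).trans (support_tensor_subset A _)).trans hsA.le)
          (notMem_support_of_isZero_restrict (isZero_restrict_cokernel U _) hξU)
      have hS : (ShortComplex.mk (mulHom s A) (cokernel.π _) (cokernel.condition _)).ShortExact :=
        .mk' (ShortComplex.exact_of_g_is_cokernel _ (cokernelIsCokernel _)) ‹_› inferInstance
      have hAbd : ∀ i, ∃ C, ∀ N, hdimk k (pw D A N) i ≤ C * (N + 1) ^ i := by
        intro i
        have hSN : ∀ N, ((ShortComplex.mk (mulHom s A) (cokernel.π _) (cokernel.condition _)).map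
            (AmpleVan.tw (CohB1.tensorPow D (N + m)))).ShortExact := fun N => by
          haveI := AmpleVan.isEquivalence_tw (hDp (N + m))
          exact hS.map_of_exact _
        have hmid : ∀ N q, hdimk k (pw D (pw L A m) (N + m)) q = hdimk k (pw D A N) q := fun N q => by
          obtain ⟨e'⟩ := cancel_powers u m A N
          exact finrank_HH_iso k e' q
        cases i with
        | zero =>
          refine ⟨∑ q ∈ Finset.range m, hdimk k (pw D A q) 0, fun N => ?_⟩
          rw [pow_zero, mul_one]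
          induction N using Nat.strong_induction_on with
          | _ N ihN =>
            rcases Nat.lt_or_ge N m with hN | hN
            · exact Finset.single_le_sum (f := fun q => hdimk k (pw D A q) 0) (fun q _ => Nat.zero_le _)
                (Finset.mem_range.2 hN)
            · obtain ⟨M, rfl⟩ : ∃ M, N = M + m := ⟨N - m, by omega⟩
              exact ((hdimk_left_zero k (hSN M) (isCoh_pw hD hP _)).trans (hmid M 0).le).trans (ihN M (by omega))
        | succ i =>
          obtain ⟨C, hCN⟩ := IH C₀ hC hCd i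
          refine pow_add_le hm (fun N => hdimk k (pw D A N) (i + 1)) (C := C) fun N => ?_
          have h := hdimk_left k (hSN N) (isCoh_pw hD hA _) (isCoh_pw hD hP _) (isCoh_pw hD hC _) i
          exact h.trans (add_le_add (hmid N (i + 1)).le (hCN (N + m)))
      intro i
      obtain ⟨C₁, h₁⟩ := hN₁ i
      obtain ⟨C₂, h₂⟩ := hAbd i
      refine ⟨C₁ + C₂, fun N => ?_⟩
      haveI := AmpleVan.isEquivalence_tw (hDp N)
      have hS' : ((ShortComplex.mk φ (cokernel.π φ) (cokernel.condition φ)).map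
          (AmpleVan.tw (CohB1.tensorPow D N))).ShortExact :=
        (ShortComplex.ShortExact.mk' (ShortComplex.exact_of_g_is_cokernel _ (cokernelIsCokernel φ))
          ‹_› inferInstance).map_of_exact _
      have h := hdimk_mid k hS' (isCoh_pw hD hNc N) (isCoh_pw hD hMc N) (isCoh_pw hD hc N) i
      rw [add_mul]
      exact h.trans (add_le_add (h₁ N) ((finrank_HH_iso k ((AmpleVan.tw _).mapIso e) i).le.trans (h₂ N)))

include k in
/-- For an ample polarisation, the top cohomology of some negative twist is nonzero. -/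
theorem exists_nontrivial_top (hL : CohB1.IsAmple L) (hD : PicF.IsInvertible D)
    (u : CohB1.tensorMod L D ≅ Coh.structureModule X) {G : X.Modules} (hG : Coh.IsCoh G) {a : ℕ} (ha : 1 ≤ a)
    (hdim : topologicalKrullDim ↥(CohB1.support G) = (a : WithBot ℕ∞)) :
    ∃ N : ℕ, Nontrivial (Coh.HH X (pw D G N) a) := by
  haveI : IsNoetherian X := CurveCohLib.isNoetherian_of_proper (k := k)
  haveI : X.IsSeparated := ⟨by
    have h : terminal.from X = (X ↘ Spec (CommRingCat.of k)) ≫ terminal.from _ := Subsingleton.elim _ _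
    rw [h]
    infer_instance⟩
  by_contra hno
  simp only [not_exists, not_nontrivial_iff_subsingleton] at hno
  obtain ⟨P, hP, hPd, hPa⟩ := exists_poly (additive_euler k) hL.1 hG hdim.le
  have hpos : (0 : ℤ) < mult k L a G := (mult_nonneg_and_pos k hL a G hG hdim.le).2 hdim
  have hPdeg : P.natDegree = a := by
    refine le_antisymm hPd (Polynomial.le_natDegree_of_ne_zero fun h0 => ?_)
    rw [StabCat.alpha, h0, mul_zero] at hPa
    exact hpos.ne' (by exact_mod_cast hPa.symm)
  obtain ⟨c⟩ := H23.PicMul.comm D L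
  have hneg : ∀ N : ℕ, (Curv2.euler k X (pw D G N) : ℚ) = P.eval (-(N : ℚ)) := by
    intro N
    obtain ⟨R, hR, -, -⟩ := exists_poly (additive_euler k) hL.1 (isCoh_pw hD hG N)
      (d := a) ((H23.TopDim.dim_le_dim_of_subset (support_tensor_subset _ _)).trans hdim.le)
    have hRP : R = P.comp (Polynomial.X - Polynomial.C (N : ℚ)) := by
      refine Polynomial.eq_of_infinite_eval_eq _ _ (Set.infinite_of_injective_forall_mem
        (f := fun j : ℕ => ((j + N : ℕ) : ℚ)) (fun j j' h => by simpa using h) fun j => ?_)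
      obtain ⟨e⟩ := cancel_powers (c ≪≫ u) N G j
      show R.eval _ = Polynomial.eval _ (P.comp _)
      rw [← hR, Polynomial.eval_comp, Polynomial.eval_sub, Polynomial.eval_X, Polynomial.eval_C,
        (additive_euler k).iso _ _ ⟨e⟩, hP]
      push_cast
      rw [add_sub_cancel_right]
    have h := hR 0
    rw [hRP, Polynomial.eval_comp, Polynomial.eval_sub, Polynomial.eval_X, Polynomial.eval_C,
      (additive_euler k).iso (pw L (pw D G N) 0) (pw D G N) ⟨AmpleVan.twUnit.app (pw D G N)⟩] at h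
    simpa using h
  obtain ⟨b, rfl⟩ : ∃ b, a = b + 1 := ⟨a - 1, by omega⟩
  choose C hC using hdimk_pw_le k hL hD u (b + 2) G hG (lt_succ_of_le hdim.le)
  set K : ℕ := ∑ i ∈ Finset.range (b + 1), C i
  have habs : ∀ N : ℕ, |P.eval (-(N : ℚ))| ≤ (K : ℚ) * ((N : ℚ) + 1) ^ b := by
    intro N
    have hv : ∀ i, b + 1 ≤ i → Subsingleton (Coh.HH X (pw D G N) i) := fun i hi => by
      rcases hi.eq_or_lt with rfl | hi'
      · exact hno N
      · exact Snapper.subsingleton_HH_of_dim_lt (b + 2) ⟨_, QCoh.isClosed_support_of_isFT hG.1 hG.2⟩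
          (lt_succ_of_le hdim.le) _ (isCoh_pw hD hG N).1 (support_tensor_subset G _) i hi'
    rw [← hneg N, CurveCohLib.euler_eq_sum hv]
    have h1 : |∑ i ∈ Finset.range (b + 1), (-1 : ℤ) ^ i * (hdimk k (pw D G N) i : ℤ)| ≤
        ((K * (N + 1) ^ b : ℕ) : ℤ) := by
      refine (Finset.abs_sum_le_sum_abs _ _).trans ?_
      rw [Finset.sum_mul, Nat.cast_sum]
      refine Finset.sum_le_sum fun i hi => ?_
      rw [abs_mul, abs_pow, abs_neg, abs_one, one_pow, one_mul, Nat.abs_cast]
      refine Int.ofNat_le.2 ((hC i N).trans (Nat.mul_le_mul_left _ (Nat.pow_le_pow_right (by omega) ?_)))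
      exact Nat.lt_succ_iff.1 (Finset.mem_range.1 hi)
    exact_mod_cast h1
  let Q : Polynomial ℚ := P.comp (-Polynomial.X)
  let B : Polynomial ℚ := Polynomial.C (K : ℚ) * (Polynomial.X + 1) ^ b
  have hQd : Q.natDegree = b + 1 := by simp [Q, Polynomial.natDegree_comp, hPdeg]
  have hlt : B.degree < Q.degree := by
    have hB : B.natDegree ≤ b := by
      refine Polynomial.natDegree_C_mul_le _ _ |>.trans ?_
      refine Polynomial.natDegree_pow_le.trans ?_
      rw [← Polynomial.C_1, Polynomial.natDegree_X_add_C, mul_one]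
    have hQ0 : Q ≠ 0 := fun h => by rw [h, Polynomial.natDegree_zero] at hQd; omega
    rw [Polynomial.degree_eq_natDegree hQ0, hQd]
    exact Polynomial.degree_le_natDegree.trans_lt (by exact_mod_cast Nat.lt_succ_of_le hB)
  have hev := ((Polynomial.div_tendsto_zero_of_degree_lt B Q hlt).abs.comp
    (tendsto_natCast_atTop_atTop (R := ℚ))).eventually (eventually_lt_nhds (show |(0 : ℚ)| < 1 by simp))
  have hne := tendsto_natCast_atTop_atTop.eventually
    (Polynomial.eventually_atTop_not_isRoot Q (fun h => by rw [h, Polynomial.natDegree_zero] at hQd; omega))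
  obtain ⟨N, h1, h2⟩ := (hev.and hne).exists
  have hBN : B.eval (N : ℚ) = (K : ℚ) * ((N : ℚ) + 1) ^ b := by simp [B]
  have hQN : Q.eval (N : ℚ) = P.eval (-(N : ℚ)) := by simp [Q]
  simp only [Function.comp_apply, abs_div] at h1
  rw [div_lt_one (abs_pos.2 h2), hBN, hQN, abs_of_nonneg (a := (K : ℚ) * _) (by positivity)] at h1
  exact absurd (habs N) (not_le.2 h1)

end Groth.Agent.HilbPoly
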